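import Groth.Agent.PicThk.K111.PowRoot
import Groth.Agent.CurvesC.BlowUpCharts

/-!
# `p`-th roots on the thickenings `X_n` of the fibre over `(p)`

For `f : X ⟶ Spec A` and `I = (p)`: a line bundle on `X_{n+2}` trivial on `X_{n+1}` is the `p`-th power of one trivial on
`X_n` (`1 ≤ n`), if second cohomology vanishes on `X_{n+2}`.
-/

set_option autoImplicit false
universe u

open CategoryTheory CategoryTheory.Limits AlgebraicGeometry Opposite TopologicalSpace

namespace K111.ThickRoot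

open Groth.Agent K858.Basic Scheme.IdealSheafData

/-! ### Ideals generated by a power of `p` -/

/-- The ideal sheaf generated by `p^k`. -/
noncomputable def pI (Y : Scheme.{u}) (p k : ℕ) : Y.IdealSheafData :=
  Scheme.IdealSheafData.ofIdealTop (Ideal.span {(p : Γ(Y, ⊤)) ^ k})

theorem pI_ideal (Y : Scheme.{u}) (p k : ℕ) (U : Y.affineOpens) :
    (pI Y p k).ideal U = Ideal.span {(p : Γ(Y, U.1)) ^ k} := by
  rw [pI, ofIdealTop_ideal, Ideal.map_span, Set.image_singleton, map_pow, map_natCast]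

theorem comap_pI {X Y : Scheme.{u}} [IsAffine Y] (f : X ⟶ Y) (p k : ℕ) : (pI Y p k).comap f = pI X p k := by
  rw [pI, CurvesC.BlowUpCharts.comap_ofIdealTop, Ideal.map_span, Set.image_singleton, map_pow, map_natCast, pI]

theorem isClosedImmersion_specQuot {A : Type u} [CommRing A] (I : Ideal A) (n : ℕ) :
    IsClosedImmersion (CohB1.specQuot I n) :=
  IsClosedImmersion.spec_of_surjective _ Ideal.Quotient.mk_surjective

attribute [local instance] isClosedImmersion_specQuot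

variable {A : Type u} [CommRing A] (p : ℕ)

/-- The ideal `(p)`. -/
local notation "𝔭" => (Ideal.span (singleton ((p : ℕ) : A)) : Ideal A)

theorem appTop_specQuot_eq_zero_iff (I : Ideal A) (n : ℕ) (a : Γ(Spec (CommRingCat.of A), ⊤)) :
    (CohB1.specQuot I n).appTop a = 0 ↔ (Scheme.ΓSpecIso (CommRingCat.of A)).hom a ∈ I ^ (n + 1) := by
  have h := Scheme.ΓSpecIso_naturality (CommRingCat.ofHom (Ideal.Quotient.mk (I ^ (n + 1))))
  have h1 : (Scheme.ΓSpecIso (CommRingCat.of (A ⧸ I ^ (n + 1)))).hom ((CohB1.specQuot I n).appTop a) =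
      Ideal.Quotient.mk (I ^ (n + 1)) ((Scheme.ΓSpecIso (CommRingCat.of A)).hom a) :=
    ConcreteCategory.congr_hom h a
  rw [← Ideal.Quotient.eq_zero_iff_mem, ← h1]
  constructor
  · intro h2
    rw [h2, map_zero]
  · intro h2
    have hinj : Function.Injective (Scheme.ΓSpecIso (CommRingCat.of (A ⧸ I ^ (n + 1)))).hom :=
      (ConcreteCategory.bijective_of_isIso _).1
    exact hinj (h2.trans (map_zero _).symm)

theorem ker_specQuot (n : ℕ) : (CohB1.specQuot 𝔭 n).ker = pI (Spec (CommRingCat.of A)) p (n + 1) := by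
  rw [Scheme.ker_of_isAffine, pI]
  congr 1
  ext a
  rw [RingHom.mem_ker]
  refine (appTop_specQuot_eq_zero_iff 𝔭 n a).trans ?_
  rw [Ideal.span_singleton_pow, Ideal.mem_span_singleton, Ideal.mem_span_singleton]
  have hi : ∀ b : A, (Scheme.ΓSpecIso (CommRingCat.of A)).hom ((Scheme.ΓSpecIso (CommRingCat.of A)).inv b) = b :=
    fun b => ConcreteCategory.congr_hom (Scheme.ΓSpecIso (CommRingCat.of A)).inv_hom_id b
  have hi' : ∀ b, (Scheme.ΓSpecIso (CommRingCat.of A)).inv ((Scheme.ΓSpecIso (CommRingCat.of A)).hom b) = b :=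
    fun b => ConcreteCategory.congr_hom (Scheme.ΓSpecIso (CommRingCat.of A)).hom_inv_id b
  constructor
  · rintro ⟨b, hb⟩
    refine ⟨(Scheme.ΓSpecIso (CommRingCat.of A)).inv b, ?_⟩
    rw [← hi' a, hb, map_mul, map_pow, map_natCast]
  · rintro ⟨b, rfl⟩
    exact ⟨(Scheme.ΓSpecIso (CommRingCat.of A)).hom b, by rw [map_mul, map_pow, map_natCast]⟩

/-! ### Closed subschemes of closed subschemes -/

theorem ker_eq_comap {Z Y X : Scheme.{u}} (j : Z ⟶ Y) (i : Y ⟶ X) [Mono i] [IsClosedImmersion (j ≫ i)] :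
    j.ker = (j ≫ i).ker.comap i := by
  have h : IsPullback j (𝟙 Z) i (j ≫ i) := by
    refine ⟨⟨by rw [Category.id_comp]⟩, ⟨PullbackCone.IsLimit.mk _ (fun s => s.snd) (fun s => ?_) (fun s => ?_)
      (fun s m h1 h2 => ?_)⟩⟩
    · rw [← cancel_mono i, Category.assoc, s.condition]
    · exact Category.comp_id _
    · rw [← h2, Category.comp_id]
  have h1 : j.ker = (h.isoPullback.hom ≫ pullback.fst i (j ≫ i)).ker := by rw [h.isoPullback_hom_fst]
  rw [h1, Scheme.Hom.ker_comp_of_isIso, Scheme.IdealSheafData.ker_fst_of_isClosedImmersion]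

variable {X : Scheme.{u}} (f : X ⟶ Spec (CommRingCat.of A))

theorem isClosedImmersion_thickι (I : Ideal A) (n : ℕ) : IsClosedImmersion (CohB1.thickι f I n) :=
  inferInstanceAs (IsClosedImmersion (pullback.fst f (CohB1.specQuot I n)))

attribute [local instance] isClosedImmersion_thickι

theorem thickTrans_thickι (I : Ideal A) (n : ℕ) :
    CohB1.thickTrans f I n ≫ CohB1.thickι f I (n + 1) = CohB1.thickι f I n :=
  (pullback.lift_fst _ _ _).trans (Category.comp_id _)

theorem ker_thickι (n : ℕ) :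
    (CohB1.thickι f 𝔭 n).ker = (pI (Spec (CommRingCat.of A)) p (n + 1)).comap f := by
  rw [← ker_specQuot]
  exact Scheme.IdealSheafData.ker_fst_of_isClosedImmersion _ _

/-- A closed immersion `X_k → X_N` over `X` is cut out by `p^(k+1)`. -/
theorem ker_of_comp (k N : ℕ) (j : CohB1.thick f 𝔭 k ⟶ CohB1.thick f 𝔭 N)
    (hj : j ≫ CohB1.thickι f 𝔭 N = CohB1.thickι f 𝔭 k) : j.ker = pI _ p (k + 1) := by
  have : IsClosedImmersion (j ≫ CohB1.thickι f 𝔭 N) := by rw [hj]; infer_instance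
  rw [ker_eq_comap j (CohB1.thickι f 𝔭 N), hj, ker_thickι, ← Scheme.IdealSheafData.comap_comp, comap_pI]

/-- `p^(N+1) = 0` on `X_N`. -/
theorem pow_eq_zero (N : ℕ) (U : (CohB1.thick f 𝔭 N).Opens) : (p : Γ(CohB1.thick f 𝔭 N, U)) ^ (N + 1) = 0 := by
  have h1 : (p : A ⧸ 𝔭 ^ (N + 1)) ^ (N + 1) = 0 := by
    rw [← map_natCast (Ideal.Quotient.mk (𝔭 ^ (N + 1))), ← map_pow, Ideal.Quotient.eq_zero_iff_mem]
    exact Ideal.pow_mem_pow (Ideal.mem_span_singleton_self _) _
  have h2 := congrArg (Scheme.ΓSpecIso (CommRingCat.of (A ⧸ 𝔭 ^ (N + 1)))).inv h1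
  have h3 := congrArg (CohB1.thickToBase f 𝔭 N).appTop h2
  have h4 := congrArg ((CohB1.thick f 𝔭 N).presheaf.map (homOfLE (le_top (a := U))).op) h3
  simpa only [map_pow, map_natCast, map_zero] using h4

theorem pull_ker_subschemeι {Z Y : Scheme.{u}} (j : Z ⟶ Y) [IsClosedImmersion j] (e : Pic Y) :
    pull j.ker.subschemeι e = 1 ↔ pull j e = 1 := by
  have h1 : j.toImage ≫ j.ker.subschemeι = j := j.toImage_imageι
  have h2 : pull j e = pull j.toImage (pull j.ker.subschemeι e) := by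
    rw [← Groth.Agent.Grpsch.PicGrp.pull_comp, h1]
  constructor
  · intro h
    rw [h2, h, map_one]
  · intro h
    have h3 : pull (inv j.toImage) (pull j e) = pull j.ker.subschemeι e := by
      have h4 : inv j.toImage ≫ j = j.ker.subschemeι := (IsIso.inv_comp_eq _).mpr h1.symm
      rw [← Groth.Agent.Grpsch.PicGrp.pull_comp, h4]
    rw [← h3, h, map_one]

/-- Roots on thickenings. -/
theorem exists_root (n : ℕ) (hn : 1 ≤ n)
    (hvan : ∀ F : CohTop.Ab (CohB1.thick f 𝔭 (n + 2)).toTopCat, Subsingleton (CohTop.H F 2))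
    (e : Pic (CohB1.thick f 𝔭 (n + 2))) (he : pull (CohB1.thickTrans f 𝔭 (n + 1)) e = 1) :
    ∃ g : Pic (CohB1.thick f 𝔭 (n + 2)),
      pull (CohB1.thickTrans f 𝔭 n) (pull (CohB1.thickTrans f 𝔭 (n + 1)) g) = 1 ∧ g ^ p = e := by
  have hj1 := thickTrans_thickι f 𝔭 (n + 1)
  have hj2 : (CohB1.thickTrans f 𝔭 n ≫ CohB1.thickTrans f 𝔭 (n + 1)) ≫ CohB1.thickι f 𝔭 (n + 2) =
      CohB1.thickι f 𝔭 n := by
    rw [Category.assoc, hj1, thickTrans_thickι]
  have hc1 : IsClosedImmersion (CohB1.thickTrans f 𝔭 (n + 1)) := by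
    have : IsClosedImmersion (CohB1.thickTrans f 𝔭 (n + 1) ≫ CohB1.thickι f 𝔭 (n + 2)) := by
      rw [hj1]; infer_instance
    exact IsClosedImmersion.of_comp _ (CohB1.thickι f 𝔭 (n + 2))
  have hc2 : IsClosedImmersion (CohB1.thickTrans f 𝔭 n ≫ CohB1.thickTrans f 𝔭 (n + 1)) := by
    have : IsClosedImmersion ((CohB1.thickTrans f 𝔭 n ≫ CohB1.thickTrans f 𝔭 (n + 1)) ≫
        CohB1.thickι f 𝔭 (n + 2)) := by
      rw [hj2]; infer_instance
    exact IsClosedImmersion.of_comp _ (CohB1.thickι f 𝔭 (n + 2))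
  have hk1 := ker_of_comp p f (n + 1) (n + 2) _ hj1
  have hk2 := ker_of_comp p f n (n + 2) _ hj2
  rw [← pull_ker_subschemeι] at he
  obtain ⟨g, hg, hge⟩ := PowRoot.exists_pow_root (Y := CohB1.thick f 𝔭 (n + 2))
    (I := (CohB1.thickTrans f 𝔭 (n + 1)).ker)
    (J := (CohB1.thickTrans f 𝔭 n ≫ CohB1.thickTrans f 𝔭 (n + 1)).ker) p (by
      intro V a ha
      rw [hk2, pI_ideal, Ideal.mem_span_singleton] at ha
      rw [hk1, pI_ideal, Ideal.mem_span_singleton]
      obtain ⟨b, rfl⟩ := ha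
      exact ⟨b, by ring⟩) (by
      intro V
      rw [hk1, hk2, pI_ideal, pI_ideal, Ideal.span_singleton_le_span_singleton]
      exact ⟨p, by ring⟩) (by
      rw [hk2]
      refine Scheme.IdealSheafData.ext (funext fun V => ?_)
      rw [Scheme.IdealSheafData.ideal_pow, Pi.pow_apply, pI_ideal, Ideal.span_singleton_pow, ← pow_mul,
        Scheme.IdealSheafData.ideal_bot]
      have h0 := pow_eq_zero p f (n + 2) V.1
      have h1 : (p : Γ(CohB1.thick f 𝔭 (n + 2), V.1)) ^ ((n + 1) * 2) = 0 := by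
        obtain ⟨k, hk⟩ := Nat.exists_eq_add_of_le (show n + 2 + 1 ≤ (n + 1) * 2 by omega)
        rw [hk, pow_add, h0, zero_mul]
      rw [h1]
      simp) (by
      intro V b hb
      rw [hk1, pI_ideal, Ideal.mem_span_singleton] at hb
      obtain ⟨c, rfl⟩ := hb
      refine ⟨p ^ (n + 1) * c, ?_, by ring⟩
      rw [hk2, pI_ideal, Ideal.mem_span_singleton]
      exact ⟨c, rfl⟩) hvan e he
  refine ⟨g, ?_, hge⟩
  rw [pull_ker_subschemeι] at hg
  rw [← Groth.Agent.Grpsch.PicGrp.pull_comp]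
  exact hg

end K111.ThickRoot
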