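import Groth.Agent.S0056
import Groth.Agent.S0039
import Groth.Agent.S11968
import Groth.Agent.Sga5.AmpleFib
import Groth.Agent.PicThk.K111.ThickRoot

/-!
# Algebraization of compatible systems of line bundles trivial on the special fibre, and `p`-th roots

Let `A` be a Noetherian local ring complete for `I ≤ 𝔪`, `f : X ⟶ Spec A` proper with an ample module.

* `exists_algebraization`: a sequence `D_m` in `Pic X`, with `D_{m+1}` and `D_m` equal on `X_m` and `D_0` trivial on
  `X_0`, has a limit `E`, equal to `D_m` on `X_m`.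
* `eq_one_of_thick`: a class trivial on all the `X_m` is trivial.
* `exists_pth_root`: for `I = (p)`, a class trivial on `X_{n+1}` is the `p`-th power of one trivial on `X_n`.
-/

set_option autoImplicit false
universe u

open CategoryTheory CategoryTheory.Limits AlgebraicGeometry Opposite TopologicalSpace

namespace K111.Algebraize

open Groth.Agent K858.Basic CohqB

open Groth.Agent.Fdesc.LocGen (isInvertible_pullback)

variable {A : Type u} [CommRing A] [IsNoetherianRing A] (I : Ideal A)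
  {X : Scheme.{u}} (f : X ⟶ Spec (CommRingCat.of A)) [IsProper f]

theorem exists_algebraization [IsAdicComplete I A] (L : X.Modules) (hL : CohB1.IsAmple L)
    (D : ℕ → Pic X) (hD : ∀ m, pull (CohB1.thickι f I m) (D (m + 1)) = pull (CohB1.thickι f I m) (D m))
    (hD0 : pull (CohB1.thickι f I 0) (D 0) = 1) :
    ∃ E : Pic X, ∀ m, pull (CohB1.thickι f I m) E = pull (CohB1.thickι f I m) (D m) := by
  let ℓ : Pic X := mk L hL.1
  have hex : ∀ m, ∃ (M : (CohB1.thick f I m).Modules) (hM : PicF.IsInvertible M),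
      pull (CohB1.thickι f I m) (D m * ℓ) = mk M hM := fun m => Grpsch.PicGrp.exists_mk _
  choose M hM hMe using hex
  have hp0 : IsProper (CohB1.thickToBase f I 0) :=
    MorphismProperty.of_isPullback (AlgThick2.isPullback_thick f I 0) (inferInstanceAs (IsProper f))
  have hcomp : ∀ m (c : Pic X), pull (CohB1.thickTrans f I m) (pull (CohB1.thickι f I (m + 1)) c) =
      pull (CohB1.thickι f I m) c := fun m c => by
    rw [← Grpsch.PicGrp.pull_comp, AlgThick2.thickTrans_ι]
  have hM0 : CohB1.IsAmple (M 0) := by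
    have h1 : mk (M 0) (hM 0) = mk ((Scheme.Modules.pullback (CohB1.thickι f I 0)).obj L)
        (isInvertible_pullback _ hL.1) := by
      rw [← hMe 0, map_mul, hD0, one_mul]
      exact Grpsch.PicGrp.pull_mk _ _
    obtain ⟨e⟩ := (Grpsch.PicGrp.mk_eq_iff _ _).mp h1
    exact AmpCocycle.isAmple_of_iso e.symm (Sga5.AmpleFib.isAmple_pullback _ hL)
  obtain ⟨Y, g, N, e, hg, hN, -, hcart, he, hNe⟩ := S0056.result A I (fun m => CohB1.thick f I m)
    (fun m => CohB1.thickToBase f I m) (fun m => CohB1.thickTrans f I m)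
    (AlgThick2.isPullback_thickTrans f I) hp0 M hM (fun m => by
      refine (Grpsch.PicGrp.mk_eq_iff (isInvertible_pullback _ (hM (m + 1))) (hM m)).mp ?_
      have e1 : pull (CohB1.thickTrans f I m) (mk (M (m + 1)) (hM (m + 1))) = mk (M m) (hM m) := by
        rw [← hMe (m + 1), ← hMe m, hcomp, map_mul, map_mul, hD]
      exact e1) hM0
  -- the maps to the thickenings of `Y`
  let G : ∀ m, CohB1.thick f I m ⟶ CohB1.thick g I m := fun m =>
    pullback.lift (e m) (CohB1.thickToBase f I m) (hcart m).w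
  have hG1 : ∀ m, G m ≫ CohB1.thickι g I m = e m := fun m => pullback.lift_fst _ _ _
  have hG2 : ∀ m, G m ≫ CohB1.thickToBase g I m = CohB1.thickToBase f I m := fun m => pullback.lift_snd _ _ _
  obtain ⟨φ, -, hφ⟩ := S0039.result A I f g G hG2 (fun m => by
    rw [← cancel_mono (CohB1.thickι g I (m + 1)), Category.assoc, hG1, Category.assoc, AlgThick2.thickTrans_ι, hG1,
      he m])
  refine ⟨pull φ (mk N hN) * ℓ⁻¹, fun m => ?_⟩
  have h1 : pull (CohB1.thickι f I m) (pull φ (mk N hN)) = pull (CohB1.thickι f I m) (D m * ℓ) := by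
    rw [← Grpsch.PicGrp.pull_comp, hφ, hG1, hMe, Grpsch.PicGrp.pull_mk]
    exact (Grpsch.PicGrp.mk_eq_iff _ _).mpr (hNe m)
  rw [map_mul, h1, ← map_mul, mul_inv_cancel_right]

theorem eq_one_of_thick [IsLocalRing A] (hI : I ≤ IsLocalRing.maximalIdeal A) (c : Pic X)
    (hc : ∀ m, pull (CohB1.thickι f I m) c = 1) : c = 1 := by
  obtain ⟨L, hL, rfl⟩ := Grpsch.PicGrp.exists_mk c
  rw [Grpsch.PicGrp.mk_eq_one_iff]
  refine S11968.result A I hI f L hL fun m => ?_
  have h := hc m
  rw [Grpsch.PicGrp.pull_mk, Grpsch.PicGrp.mk_eq_one_iff] at h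
  exact h

end K111.Algebraize

namespace K111.Algebraize

open Groth.Agent K858.Basic CohqB

variable {A : Type u} [CommRing A] [IsNoetherianRing A] [IsLocalRing A] (p : ℕ)

/-- The ideal `(p)`. -/
local notation "𝔭" => (Ideal.span (singleton ((p : ℕ) : A)) : Ideal A)

variable {X : Scheme.{u}} (f : X ⟶ Spec (CommRingCat.of A)) [IsProper f]

theorem exists_pth_root [IsAdicComplete 𝔭 A] (h𝔭 : 𝔭 ≤ IsLocalRing.maximalIdeal A)
    (L : X.Modules) (hL : CohB1.IsAmple L)
    (hsurj : ∀ m, Function.Surjective (pull (CohB1.thickι f 𝔭 m)))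
    (hvan : ∀ m (F : CohTop.Ab (CohB1.thick f 𝔭 m).toTopCat), Subsingleton (CohTop.H F 2))
    (n : ℕ) (hn : 1 ≤ n) (c : Pic X) (hc : pull (CohB1.thickι f 𝔭 (n + 1)) c = 1) :
    ∃ d : Pic X, pull (CohB1.thickι f 𝔭 n) d = 1 ∧ d ^ p = c := by
  have hcomp : ∀ m (c : Pic X), pull (CohB1.thickTrans f 𝔭 m) (pull (CohB1.thickι f 𝔭 (m + 1)) c) =
      pull (CohB1.thickι f 𝔭 m) c := fun m c => by
    rw [← Grpsch.PicGrp.pull_comp, AlgThick2.thickTrans_ι]
  have hmono : ∀ {m k : ℕ} (_ : m ≤ k) (a b : Pic X), pull (CohB1.thickι f 𝔭 k) a = pull (CohB1.thickι f 𝔭 k) b →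
      pull (CohB1.thickι f 𝔭 m) a = pull (CohB1.thickι f 𝔭 m) b := by
    intro m k hmk a b h
    induction k, hmk using Nat.le_induction with
    | base => exact h
    | succ k hk ih => exact ih (by rw [← hcomp k a, ← hcomp k b, h])
  -- one step
  have step : ∀ (k : ℕ) (d : Pic X), pull (CohB1.thickι f 𝔭 (n + k + 1)) (d ^ p) =
      pull (CohB1.thickι f 𝔭 (n + k + 1)) c → ∃ d' : Pic X,
      pull (CohB1.thickι f 𝔭 (n + (k + 1) + 1)) (d' ^ p) = pull (CohB1.thickι f 𝔭 (n + (k + 1) + 1)) c ∧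
      pull (CohB1.thickι f 𝔭 (n + k)) d' = pull (CohB1.thickι f 𝔭 (n + k)) d := by
    intro k d hd
    obtain ⟨g, hg1, hg2⟩ := ThickRoot.exists_root p f (n + k) (by omega) (hvan _)
      (pull (CohB1.thickι f 𝔭 (n + k + 2)) (c * (d ^ p)⁻¹)) (by
        rw [hcomp, map_mul, map_inv, hd, mul_inv_cancel])
    obtain ⟨g', rfl⟩ := hsurj _ g
    refine ⟨d * g', ?_, ?_⟩
    · change pull (CohB1.thickι f 𝔭 (n + k + 2)) ((d * g') ^ p) = pull (CohB1.thickι f 𝔭 (n + k + 2)) c
      rw [mul_pow, map_mul, map_pow _ g', hg2, ← map_mul]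
      congr 1
      rw [mul_comm c, mul_inv_cancel_left]
    · rw [hcomp, hcomp] at hg1
      rw [map_mul, hg1, mul_one]
  choose! nxt h1 h2 using step
  let D : ℕ → Pic X := fun k => Nat.rec 1 (fun k d => nxt k d) k
  have hD0 : D 0 = 1 := rfl
  have hDs : ∀ k, D (k + 1) = nxt k (D k) := fun k => rfl
  have hDp : ∀ k, pull (CohB1.thickι f 𝔭 (n + k + 1)) (D k ^ p) = pull (CohB1.thickι f 𝔭 (n + k + 1)) c := by
    intro k
    induction k with
    | zero => rw [hD0, one_pow, map_one]; exact hc.symm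
    | succ k ih => exact h1 k (D k) ih
  have hDc : ∀ k, pull (CohB1.thickι f 𝔭 (n + k)) (D (k + 1)) = pull (CohB1.thickι f 𝔭 (n + k)) (D k) :=
    fun k => h2 k (D k) (hDp k)
  obtain ⟨E, hE⟩ := exists_algebraization 𝔭 f L hL D
    (fun m => hmono (by omega) _ _ (hDc m)) (by rw [hD0, map_one])
  have hEn : pull (CohB1.thickι f 𝔭 n) E = 1 := by
    have h3 : ∀ k, pull (CohB1.thickι f 𝔭 n) (D k) = 1 := by
      intro k
      induction k with
      | zero => rw [hD0, map_one]
      | succ k ih => rw [← ih]; exact hmono (by omega) _ _ (hDc k)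
    rw [hE n, h3]
  refine ⟨E, hEn, ?_⟩
  have h4 : E ^ p * c⁻¹ = 1 := by
    refine eq_one_of_thick 𝔭 f h𝔭 _ fun m => ?_
    have h5 := hmono (show m ≤ n + m + 1 by omega) _ _ (hDp m)
    rw [map_mul, map_pow, hE m, map_inv, ← h5, map_pow, mul_inv_cancel]
  exact mul_inv_eq_one.mp h4

theorem exists_pow_root [IsAdicComplete 𝔭 A] (h𝔭 : 𝔭 ≤ IsLocalRing.maximalIdeal A)
    (L : X.Modules) (hL : CohB1.IsAmple L)
    (hsurj : ∀ m, Function.Surjective (pull (CohB1.thickι f 𝔭 m)))
    (hvan : ∀ m (F : CohTop.Ab (CohB1.thick f 𝔭 m).toTopCat), Subsingleton (CohTop.H F 2))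
    (i : ℕ) (n : ℕ) (hn : 1 ≤ n) (c : Pic X) (hc : pull (CohB1.thickι f 𝔭 (n + i)) c = 1) :
    ∃ d : Pic X, pull (CohB1.thickι f 𝔭 n) d = 1 ∧ d ^ (p ^ i) = c := by
  induction i generalizing c with
  | zero => exact ⟨c, hc, by rw [pow_zero, pow_one]⟩
  | succ i ih =>
    obtain ⟨d, hd, hdc⟩ := exists_pth_root p f h𝔭 L hL hsurj hvan (n + i) (by omega) c hc
    obtain ⟨d', hd', hdd'⟩ := ih d hd
    exact ⟨d', hd', by rw [pow_succ, pow_mul, hdd', hdc]⟩

end K111.Algebraize
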