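import Groth.Agent.Sga5.HcConst
import Groth.Agent.VarietyB.DimTop
import Groth.Agent.S2878
import Groth.Agent.S0458
import Groth.Agent.PicGrp.K858.Basic
import Groth.Prelude.Def_CohB1
import Mathlib.RingTheory.Henselian
import Mathlib.AlgebraicGeometry.Morphisms.Smooth

/-!
# Thickenings of the closed fibre of a relative curve over a complete local ring

`A` Noetherian local, complete, `f : X ⟶ Spec A` proper, smooth of relative dimension `1`. Then
`Pic X → Pic X_n` is surjective and `H²(X_n, F) = 0` for all abelian sheaves.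
-/

set_option autoImplicit false
universe u

open CategoryTheory CategoryTheory.Limits AlgebraicGeometry Opposite TopologicalSpace IsLocalRing

namespace K111.Geom

open Groth.Agent K858.Basic

theorem henselianLocalRing_of_isAdicComplete (A : Type u) [CommRing A] [IsLocalRing A]
    [IsAdicComplete (maximalIdeal A) A] : HenselianLocalRing A where
  is_henselian := by
    intro f hf a₀ h₁ h₂
    exact HenselianRing.is_henselian (I := maximalIdeal A) f hf a₀ h₁
      (h₂.map (Ideal.Quotient.mk (maximalIdeal A)))

theorem topologicalKrullDim_le_of_smooth (k : Type u) [Field k] (n : ℕ) {X : Scheme.{u}}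
    (f : X ⟶ Spec (CommRingCat.of k)) [SmoothOfRelativeDimension n f] : topologicalKrullDim X ≤ n := by
  refine Groth.Agent.VarietyB.DimTop.topologicalKrullDim_le_of_forall fun x => ?_
  obtain ⟨_, ⟨U, hU, rfl⟩, hx, -⟩ :=
    X.isBasis_affineOpens.exists_subset_of_mem_open (Set.mem_univ x) isOpen_univ
  change X.Opens at U
  refine ⟨U, hx, ?_⟩
  have : IsAffine U := hU
  have : SmoothOfRelativeDimension n (U.ι ≫ f) := by
    have : SmoothOfRelativeDimension (0 + n) (U.ι ≫ f) := inferInstance
    rwa [zero_add] at this
  exact Groth.Agent.Sga5.HcConst.topologicalKrullDim_le k n (U.ι ≫ f)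

section

variable {A : Type u} [CommRing A] [IsLocalRing A] {X : Scheme.{u}} (f : X ⟶ Spec (CommRingCat.of A))

theorem fibre_dim {Y : Scheme.{u}} (g : X ⟶ Y) [SmoothOfRelativeDimension 1 g] (s : Y) :
    topologicalKrullDim ↥(pullback g (Y.fromSpecResidueField s)) ≤ 1 := by
  have := smoothOfRelativeDimension_isStableUnderBaseChange (n := 1)
  have h : SmoothOfRelativeDimension 1 (pullback.snd g (Y.fromSpecResidueField s)) :=
    MorphismProperty.pullback_snd (P := @SmoothOfRelativeDimension 1) _ _ ‹_›
  exact topologicalKrullDim_le_of_smooth (Y.residueField s) 1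
    (pullback.snd g (Y.fromSpecResidueField s) : _ ⟶ Spec (CommRingCat.of (Y.residueField s)))

theorem range_thickι (n : ℕ) :
    Set.range (CohB1.thickι f (maximalIdeal A) n).base = f.base ⁻¹' {closedPoint A} := by
  have h := AlgebraicGeometry.Scheme.Pullback.range_fst f (CohB1.specQuot (maximalIdeal A) n)
  refine Eq.trans h ?_
  congr 1
  have h2 : Set.range (CohB1.specQuot (maximalIdeal A) n) = PrimeSpectrum.zeroLocus (maximalIdeal A ^ (n + 1)) := by
    have h3 := range_comap_of_surjective (A ⧸ maximalIdeal A ^ (n + 1))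
      (Ideal.Quotient.mk (maximalIdeal A ^ (n + 1))) Ideal.Quotient.mk_surjective
    rw [Ideal.mk_ker] at h3
    exact h3
  rw [h2, PrimeSpectrum.zeroLocus_pow _ (Nat.succ_ne_zero n), PrimeSpectrum.zeroLocus_eq_singleton]
  rfl

theorem isClosedImmersion_thickι (I : Ideal A) (n : ℕ) : IsClosedImmersion (CohB1.thickι f I n) := by
  have : IsClosedImmersion (CohB1.specQuot I n) := IsClosedImmersion.spec_of_surjective _ Ideal.Quotient.mk_surjective
  exact inferInstanceAs (IsClosedImmersion (pullback.fst f (CohB1.specQuot I n)))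

attribute [local instance] isClosedImmersion_thickι

theorem pull_surjective [IsNoetherianRing A] [IsAdicComplete (maximalIdeal A) A] [IsProper f]
    [SmoothOfRelativeDimension 1 f] (n : ℕ) :
    Function.Surjective (pull (CohB1.thickι f (maximalIdeal A) n)) := by
  intro c
  obtain ⟨L₀, hL₀, rfl⟩ := Grpsch.PicGrp.exists_mk c
  have := henselianLocalRing_of_isAdicComplete A
  have : IsNoetherianRing (CommRingCat.of A) := inferInstanceAs (IsNoetherianRing A)
  have : IsLocallyNoetherian (Spec (CommRingCat.of A)) := inferInstance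
  have : LocallyOfFinitePresentation f := inferInstance
  have : LocallyOfFinitePresentation (CohB1.thickι f (maximalIdeal A) n ≫ f) := inferInstance
  obtain ⟨L, hL, ⟨e⟩⟩ := Groth.Agent.S2878.result A f (fibre_dim f _) (CohB1.thickι f (maximalIdeal A) n)
    (range_thickι f n) L₀ hL₀
  refine ⟨mk L hL, ?_⟩
  rw [Grpsch.PicGrp.pull_mk]
  exact (Grpsch.PicGrp.mk_eq_iff _ _).mpr ⟨e⟩

theorem subsingleton_H [IsProper f] [SmoothOfRelativeDimension 1 f] (n : ℕ)
    (F : CohTop.Ab (CohB1.thick f (maximalIdeal A) n).toTopCat) : Subsingleton (CohTop.H F 2) := by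
  obtain ⟨g, hg⟩ := S2878.exists_inducing f (CohB1.thickι f (maximalIdeal A) n) (closedPoint A) (range_thickι f n)
  have hNf : NoetherianSpace (f.fiber (closedPoint A)) := S2878.noetherianSpace_fiber f (closedPoint A)
  have hN : NoetherianSpace (CohB1.thick f (maximalIdeal A) n) := hg.noetherianSpace
  have hdimT : topologicalKrullDim (CohB1.thick f (maximalIdeal A) n) ≤ 1 :=
    hg.topologicalKrullDim_le.trans (fibre_dim f _)
  exact @S0458.result (CohB1.thick f (maximalIdeal A) n).toTopCat hN 1 (by exact_mod_cast hdimT) F 2 one_lt_two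

end

end K111.Geom
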