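import Groth.Agent.PicGrp.K858.Thick
import Groth.Agent.Pic13.H126.ThickH1

/-!
# Extracting `p`-th roots of line bundles trivial on a thickening

For quasi-coherent ideals `I ≤ J` with `J² = 0`, `I = pJ` and vanishing second cohomology, every invertible module on `Y`
trivial on `V(I)` is the `p`-th power of one trivial on `V(J)`.
-/

set_option autoImplicit false
universe u

open CategoryTheory CategoryTheory.Limits AlgebraicGeometry Opposite TopologicalSpace

namespace K111.PowRoot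

open Groth.Agent Groth.Agent.PerfA.IdealModule Groth.Agent.FormalB.HHLin K858.Basic K858.UnitsCls K858.UnitsHom
  K858.Thick Groth.Agent.Fga.SqZero Groth.Agent.Fga.Units

variable {Y : Scheme.{u}} {I J : Y.IdealSheafData}

/-- The inclusion of the ideal modules for `I ≤ J`. -/
noncomputable def incl (h : I ≤ J) : ClSub.idealMod I ⟶ ClSub.idealMod J :=
  kernel.lift (ClSub.toSubscheme J) (ClSub.idealModι I) (by
    rw [← Pic13.H126.ThickH1.toSubscheme_quotMap h, ← Category.assoc]
    have : ClSub.idealModι I ≫ ClSub.toSubscheme I = 0 := kernel.condition _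
    rw [this, zero_comp])

theorem incl_ι (h : I ≤ J) : incl h ≫ ClSub.idealModι J = ClSub.idealModι I := kernel.lift_ι _ _ _

theorem val_incl (h : I ≤ J) {U : Y.Opens} (x : Γ(ClSub.idealMod I, U)) :
    PerfA.IdealModule.val J ((incl h).app U x) = PerfA.IdealModule.val I x := by
  have h1 := congrArg (fun φ => φ.app U x) (incl_ι h)
  exact h1

/-- A function multiplied by `p`, if it vanishes on `V(J)`, vanishes on `V(I)`. -/
theorem appI_natCast_mul (p : ℕ)
    (hp : ∀ A : Y.affineOpens, ∀ a ∈ J.ideal A, (p : Γ(Y, A.1)) * a ∈ I.ideal A)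
    {U : Y.Opens} (a : Γ(Y, U)) (ha : J.subschemeι.app U a = 0) : I.subschemeι.app U (p * a) = 0 := by
  refine eq_of_locally (X := I.subscheme) _ _ fun x hx => ?_
  obtain ⟨V, hxV, hVU⟩ := exists_affine (X := Y) (U := U) (x := I.subschemeι x) hx
  refine ⟨I.subschemeι ⁻¹ᵁ V.1, I.subschemeι.preimage_mono hVU, hxV, ?_⟩
  have h1 : ores hVU a ∈ J.ideal V := mem_ideal J V _ (by rw [app_ores, ha, map_zero])
  have h2 := hp V _ h1
  rw [← I.ker_subschemeι_app, RingHom.mem_ker] at h2
  have h3 : ores hVU (p * a) = p * ores hVU a := by rw [map_mul, map_natCast]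
  rw [map_zero, ← app_ores (h := hVU), h3]
  exact h2

theorem nsmul_app {M N : Y.Modules} (p : ℕ) (φ : M ⟶ N) (U : Y.Opens) (x : Γ(M, U)) :
    (p • φ).app U x = p • φ.app U x := by
  induction p with
  | zero =>
    rw [zero_smul, zero_smul]
    rfl
  | succ p ih =>
    rw [succ_nsmul, succ_nsmul, ← ih]
    rfl

/-- Multiplication by `p` from `J` to `I`. -/
noncomputable def mulP (p : ℕ)
    (hp : ∀ A : Y.affineOpens, ∀ a ∈ J.ideal A, (p : Γ(Y, A.1)) * a ∈ I.ideal A) :
    ClSub.idealMod J ⟶ ClSub.idealMod I :=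
  kernel.lift (ClSub.toSubscheme I) (p • ClSub.idealModι J) (by
    ext U x
    have h1 : (p • ClSub.idealModι J : ClSub.idealMod J ⟶ Coh.structureModule Y).app U x =
      (p : Γ(Y, U)) * PerfA.IdealModule.val J x :=
      (nsmul_app p (ClSub.idealModι J) U x).trans (nsmul_eq_mul p (PerfA.IdealModule.val J x))
    change (ClSub.toSubscheme I).app U ((p • ClSub.idealModι J : ClSub.idealMod J ⟶ Coh.structureModule Y).app U x) = 0
    rw [h1]
    exact appI_natCast_mul p hp _ (app_val J x))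

variable (p : ℕ) (hp : ∀ A : Y.affineOpens, ∀ a ∈ J.ideal A, (p : Γ(Y, A.1)) * a ∈ I.ideal A)

theorem mulP_ι : mulP p hp ≫ ClSub.idealModι I = p • ClSub.idealModι J := kernel.lift_ι _ _ _

theorem val_mulP {U : Y.Opens} (x : Γ(ClSub.idealMod J, U)) :
    PerfA.IdealModule.val I ((mulP p hp).app U x) = p * PerfA.IdealModule.val J x := by
  have h1 := congrArg (fun φ => φ.app U x) (mulP_ι p hp)
  exact h1.trans ((nsmul_app p (ClSub.idealModι J) U x).trans (nsmul_eq_mul p (PerfA.IdealModule.val J x)))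

theorem mulP_incl (h : I ≤ J) : mulP p hp ≫ incl h = p • 𝟙 (ClSub.idealMod J) := by
  have : Mono (ClSub.idealModι J) := PerfA.IdealModule.mono_idealModι J
  rw [← cancel_mono (ClSub.idealModι J), Category.assoc, incl_ι, mulP_ι, Preadditive.nsmul_comp, Category.id_comp]

include hp in
theorem epi_mulP (hp' : ∀ A : Y.affineOpens, ∀ b ∈ I.ideal A, ∃ a ∈ J.ideal A, (p : Γ(Y, A.1)) * a = b) :
    Epi (mulP p hp) := by
  refine CohqA.Acyc.epi_of_surjective_affine _ fun U hU b => ?_
  obtain ⟨a, ha, hab⟩ := hp' ⟨U, hU⟩ _ (PerfA.IdealModule.val_mem I ⟨U, hU⟩ b)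
  obtain ⟨x, hx⟩ := PerfA.IdealModule.exists_val_eq J ⟨U, hU⟩ ha
  refine ⟨x, PerfA.IdealModule.val_injective I U ?_⟩
  rw [val_mulP, hx]
  exact hab

/-- The map `x ↦ 1 + x`. -/
noncomputable def ex (hJ : J ^ 2 = ⊥) : (tS Y).obj (ClSub.idealMod J) ⟶ UnitsSh.unitsAb Y := expMap hJ

theorem ex_incl (h : I ≤ J) (hI : I ^ 2 = ⊥) (hJ : J ^ 2 = ⊥) :
    (tS Y).map (incl h) ≫ ex hJ = ex hI := by
  ext U x
  apply Fga.Units.val_injective
  apply Units.ext
  exact congrArg (1 + ·) (val_incl h (U := U.unop) x)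

theorem gmap_nsmul {C : Type u} [SmallCategory C] {K : GrothendieckTopology C} {F G : Sheaf K AddCommGrpCat.{u}}
    [HasExt.{u} (Sheaf K AddCommGrpCat.{u})] (n : ℕ) (φ : F ⟶ G) (q : ℕ) (z : Sheaf.H F q) :
    Sheaf.H.map (n • φ) q z = n • Sheaf.H.map φ q z := by
  induction n with
  | zero =>
    rw [zero_smul, zero_smul]
    exact gmap_zero q z
  | succ n ih => rw [succ_nsmul, succ_nsmul, Sheaf.H.map_add_apply, ih]

include hp in
/-- The key lemma. -/
theorem exists_pow_root (h : I ≤ J) (hJ : J ^ 2 = ⊥)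
    (hp' : ∀ A : Y.affineOpens, ∀ b ∈ I.ideal A, ∃ a ∈ J.ideal A, (p : Γ(Y, A.1)) * a = b)
    (hvan : ∀ F : CohTop.Ab Y.toTopCat, Subsingleton (CohTop.H F 2))
    (e : Pic Y) (he : pull I.subschemeι e = 1) :
    ∃ g : Pic Y, pull J.subschemeι g = 1 ∧ g ^ p = e := by
  have hI : I ^ 2 = ⊥ := by
    refine le_bot_iff.mp ?_
    rw [← hJ]
    exact pow_le_pow_left' h 2
  have hgI := good_of_isClosedImmersion I.subschemeι
  have hgJ := good_of_isClosedImmersion J.subschemeι
  -- the class of `e` comes from `H¹(I)`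
  have h1 : Sheaf.H.map (UnitsSh.comap I.subschemeι) 1 (picEquivUnits Y (Additive.ofMul e)) = 0 := by
    rw [map_comap_pic I.subschemeι hgI e, he]
    exact map_zero _
  obtain ⟨y, hy⟩ := gexact₂ (seq_shortExact I hI) 1 _ h1
  have hy : Sheaf.H.map (ex hI) 1 y = picEquivUnits Y (Additive.ofMul e) := hy
  -- `H¹(J) → H¹(I)` is surjective
  have hepi := epi_mulP p hp hp'
  have hS : (ShortComplex.mk (kernel.ι (mulP p hp)) (mulP p hp) (kernel.condition _)).ShortExact :=
    { exact := ShortComplex.exact_kernel _ }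
  obtain ⟨z, hz⟩ := exact₃ hS 1 y ((hvan _).elim _ _)
  have hz : Sheaf.H.map ((tS Y).map (mulP p hp)) 1 z = y := hz
  let w : CohTop.H (UnitsSh.unitsAb Y) 1 := Sheaf.H.map (ex hJ) 1 z
  refine ⟨Additive.toMul ((picEquivUnits Y).symm w), ?_, ?_⟩
  · have h2 : picEquivZ J.subschemeι hgJ (Additive.ofMul (pull J.subschemeι
        (Additive.toMul ((picEquivUnits Y).symm w)))) = 0 := by
      rw [← map_comap_pic J.subschemeι hgJ, ofMul_toMul, AddEquiv.apply_symm_apply]
      exact (Sheaf.H.map_comp_apply (expMap hJ) (UnitsSh.comap J.subschemeι) z).symm.trans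
        ((congrArg (fun t => Sheaf.H.map t 1 z) (seq J hJ).zero).trans (gmap_zero 1 z))
    exact (picEquivZ J.subschemeι hgJ).injective (h2.trans (map_zero _).symm)
  · apply Additive.ofMul.injective
    apply (picEquivUnits Y).injective
    rw [ofMul_pow, map_nsmul, ofMul_toMul, AddEquiv.apply_symm_apply, ← hy]
    have h3 : (tS Y).map (mulP p hp) ≫ ex hI = p • ex hJ := by
      rw [← ex_incl h hI hJ, ← Category.assoc, ← (tS Y).map_comp, mulP_incl, Functor.map_nsmul, (tS Y).map_id,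
        Preadditive.nsmul_comp, Category.id_comp]
    have h4 : Sheaf.H.map (ex hI) 1 y = Sheaf.H.map ((tS Y).map (mulP p hp) ≫ ex hI) 1 z :=
      (congrArg _ hz.symm).trans (Sheaf.H.map_comp_apply ((tS Y).map (mulP p hp)) (ex hI) z).symm
    refine Eq.trans ?_ h4.symm
    rw [h3]
    exact (gmap_nsmul p (ex hJ) 1 z).symm

end K111.PowRoot
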